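import Cfsg.Agent.H602.DM.Center
import Cfsg.Agent.S0253
import Cfsg.Agent.S0255

/-!
# S4907, DM32: a quasisimple group with a classical central quotient is a `p'`-cover (`Good`) or an exceptional cover (`Exc`)
-/

set_option autoImplicit false

namespace Cfsg.Agent.H551.DM

open Cfsg
open Cfsg.Agent.H902.Art (Sh)
open Cfsg.Agent.H902.Names (IsLie)
open Cfsg.Agent.H700.DM

universe u

/-- the exceptional covers -/
def Exc (H : Type*) [Group H] : Prop :=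
  (3 ∣ Nat.card (Subgroup.center H) ∧ Nonempty ((H ⧸ Subgroup.center H) ≃* ↥(alternatingGroup (Fin 6)))) ∨
  (2 ∣ Nat.card (Subgroup.center H) ∧ Nonempty ((H ⧸ Subgroup.center H) ≃* ↥(alternatingGroup (Fin 8)))) ∨
  (2 ∣ Nat.card (Subgroup.center H) ∧ ∃ (F : Type) (_ : Field F) (_ : Fintype F), Fintype.card F = 2 ∧
    Nonempty ((H ⧸ Subgroup.center H) ≃* PSp 3 F)) ∨
  (3 ∣ Nat.card (Subgroup.center H) ∧ ∃ (F : Type) (_ : Field F) (_ : Fintype F), Fintype.card F = 3 ∧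
    Nonempty ((H ⧸ Subgroup.center H) ≃* POmega F (quadFormOdd 3 F))) ∨
  (2 ∣ Nat.card (Subgroup.center H) ∧ ∃ (F : Type) (_ : Field F) (_ : Fintype F), Fintype.card F = 2 ∧
    Nonempty ((H ⧸ Subgroup.center H) ≃* POmega F (quadFormPlus 4 F))) ∨
  (2 ∣ Nat.card (Subgroup.center H) ∧ ∃ (F : Type) (_ : Field F) (_ : Fintype F), Fintype.card F = 4 ∧
    Nonempty ((H ⧸ Subgroup.center H) ≃* PSU 6 F 2))

/-- `S` is the classical simple group named `g`, of shape `X` over the field of `p ^ f` elements -/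
structure Nm (g : OrdDiv.Grp) (X : Sh) (p f : ℕ) (S : Type u) [Group S] : Prop where
  cl : IsCl X
  isLie : IsLie g X p f
  name : OrdDiv.Real g S
  real : H902.Art.Real X p f (Nat.card S)
  lie : IsLieTypeChar p S

theorem charP_pow {F : Type} [Field F] [Fintype F] {p f : ℕ} (hp : p.Prime) (hF : Fintype.card F = p ^ f) :
    CharP F p := by
  have : Fact p.Prime := ⟨hp⟩
  exact charP_of_card_eq_prime_pow hF

theorem nm_psl {S : Type u} [Group S] {F : Type} [Field F] [Fintype F] {n p f : ℕ} (hp : p.Prime) (hf : 1 ≤ f)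
    (hF : Fintype.card F = p ^ f) (hn : 2 ≤ n) (hn2 : n = 2 → 4 ≤ p ^ f)
    (e : S ≃* Matrix.ProjectiveSpecialLinearGroup (Fin n) F) : Nm (.psl n (p ^ f)) (.L n) p f S where
  cl := trivial
  isLie := .psl n p f
  name := ⟨F, inferInstance, inferInstance, hF, ⟨e⟩⟩
  real := by
    rw [Nat.card_congr e.toEquiv]
    exact H902.Names.psl_real hp hf hF hn hn2
  lie := Or.inl ⟨F, inferInstance, inferInstance, charP_pow hp hF, n, hn, by rw [hF]; exact hn2, ⟨e⟩⟩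

theorem nm_psp {S : Type u} [Group S] {F : Type} [Field F] [Fintype F] {n p f : ℕ} (hp : p.Prime) (hf : 1 ≤ f)
    (hF : Fintype.card F = p ^ f) (hn : 2 ≤ n) (hn2 : n = 2 → 3 ≤ p ^ f)
    (e : S ≃* PSp n F) : Nm (.psp n (p ^ f)) (.C n) p f S where
  cl := trivial
  isLie := .psp n p f
  name := ⟨F, inferInstance, inferInstance, hF, ⟨e⟩⟩
  real := by
    rw [Nat.card_congr e.toEquiv]
    exact H902.Names.psp_real hp hf hF hn hn2
  lie := Or.inr (Or.inl ⟨F, inferInstance, inferInstance, charP_pow hp hF, n, hn, by rw [hF]; exact hn2, ⟨e⟩⟩)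

theorem nm_psu {S : Type u} [Group S] {F : Type} [Field F] [Fintype F] {n p f : ℕ} (hp : p.Prime) (hf : 1 ≤ f)
    (hF : Fintype.card F = (p ^ f) ^ 2) (hn : 3 ≤ n) (hn2 : ¬ (n = 3 ∧ p ^ f = 2))
    (e : S ≃* PSU n F (p ^ f)) : Nm (.psu n (p ^ f)) (.U n) p f S where
  cl := trivial
  isLie := .psu n p f
  name := ⟨F, inferInstance, inferInstance, hF, ⟨e⟩⟩
  real := by
    rw [Nat.card_congr e.toEquiv]
    exact H902.Names.psu_real hp hf hF hn hn2
  lie := Or.inr (Or.inr (Or.inl ⟨F, inferInstance, inferInstance,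
    charP_pow hp (by rw [hF, ← pow_mul]), n, p ^ f, hF, hn, hn2, ⟨e⟩⟩))

theorem nm_oodd {S : Type u} [Group S] {F : Type} [Field F] [Fintype F] {n p f : ℕ} (hp : p.Prime) (hf : 1 ≤ f)
    (hF : Fintype.card F = p ^ f) (hn : 3 ≤ n) (ho : Odd (p ^ f))
    (e : S ≃* POmega F (quadFormOdd n F)) : Nm (.oodd n (p ^ f)) (.C n) p f S where
  cl := trivial
  isLie := .oodd n p f hn ho
  name := ⟨F, inferInstance, inferInstance, hF, ⟨e⟩⟩
  real := by
    rw [Nat.card_congr e.toEquiv]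
    exact H902.Names.oodd_real hp hf hF hn ho
  lie := Or.inr (Or.inr (Or.inr (Or.inl ⟨F, inferInstance, inferInstance, charP_pow hp hF, n, hn,
    by rw [hF]; exact ho, ⟨e⟩⟩)))

theorem nm_oplus {S : Type u} [Group S] {F : Type} [Field F] [Fintype F] {n p f : ℕ} (hp : p.Prime) (hf : 1 ≤ f)
    (hF : Fintype.card F = p ^ f) (hn : 4 ≤ n)
    (e : S ≃* POmega F (quadFormPlus n F)) : Nm (.oplus n (p ^ f)) (.D n) p f S where
  cl := trivial
  isLie := .oplus n p f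
  name := ⟨F, inferInstance, inferInstance, hF, ⟨e⟩⟩
  real := by
    rw [Nat.card_congr e.toEquiv]
    exact H902.Names.oplus_real hp hf hF hn
  lie := Or.inr (Or.inr (Or.inr (Or.inr (Or.inl ⟨F, inferInstance, inferInstance, charP_pow hp hF, n, hn, ⟨e⟩⟩))))

theorem nm_ominus {S : Type u} [Group S] {F : Type} [Field F] [Fintype F] {n p f : ℕ} (hp : p.Prime) (hf : 1 ≤ f)
    (hF : Fintype.card F = p ^ f) (hn : 4 ≤ n) {a b : F}
    (hab : ∀ z₁ z₂ : F, z₁ ^ 2 + a * z₁ * z₂ + b * z₂ ^ 2 = 0 → z₁ = 0 ∧ z₂ = 0)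
    (e : S ≃* POmega F (quadFormMinus (n - 1) F a b)) : Nm (.ominus n (p ^ f)) (.DD n) p f S where
  cl := trivial
  isLie := .ominus n p f
  name := ⟨F, inferInstance, inferInstance, a, b, hF, hab, ⟨e⟩⟩
  real := by
    rw [Nat.card_congr e.toEquiv]
    exact H902.Names.ominus_real hp hf hF hn hab
  lie := Or.inr (Or.inr (Or.inr (Or.inr (Or.inr (Or.inl ⟨F, inferInstance, inferInstance, charP_pow hp hF, n, a, b,
    hn, hab, ⟨e⟩⟩)))))

/-- the classical simple groups have names -/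
theorem exists_nm {S : Type u} [Group S] (hcl : IsPSL S ∨ IsPSp S ∨ IsPSU S ∨ IsPOmegaOdd S ∨ IsPOmegaPlus S ∨
    IsPOmegaMinus S) : ∃ g X p f, Nm g X p f S := by
  rcases hcl with h | h | h | h | h | h
  · obtain ⟨F, _, _, n, hn, hn2, ⟨e⟩⟩ := h
    obtain ⟨p, f, hp, hf, hF⟩ := H902.Names.exists_pp F
    rw [hF] at hn2
    exact ⟨_, _, p, f, nm_psl hp hf hF hn hn2 e⟩
  · obtain ⟨F, _, _, n, hn, hn2, ⟨e⟩⟩ := h
    obtain ⟨p, f, hp, hf, hF⟩ := H902.Names.exists_pp F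
    rw [hF] at hn2
    exact ⟨_, _, p, f, nm_psp hp hf hF hn hn2 e⟩
  · obtain ⟨F, _, _, n, q, hF, hn, hn2, ⟨e⟩⟩ := h
    have hqp : IsPrimePow q := by
      have h2 : IsPrimePow (q ^ 2) := hF ▸ Fintype.isPrimePow_card_of_field
      exact (isPrimePow_pow_iff (by norm_num)).1 h2
    obtain ⟨p, f, hp, hf, rfl⟩ := (isPrimePow_nat_iff _).1 hqp
    exact ⟨_, _, p, f, nm_psu hp hf hF hn hn2 e⟩
  · obtain ⟨F, _, _, n, hn, ho, ⟨e⟩⟩ := h
    obtain ⟨p, f, hp, hf, hF⟩ := H902.Names.exists_pp F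
    rw [hF] at ho
    exact ⟨_, _, p, f, nm_oodd hp hf hF hn ho e⟩
  · obtain ⟨F, _, _, n, hn, ⟨e⟩⟩ := h
    obtain ⟨p, f, hp, hf, hF⟩ := H902.Names.exists_pp F
    exact ⟨_, _, p, f, nm_oplus hp hf hF hn e⟩
  · obtain ⟨F, _, _, n, a, b, hn, hab, ⟨e⟩⟩ := h
    obtain ⟨p, f, hp, hf, hF⟩ := H902.Names.exists_pp F
    exact ⟨_, _, p, f, nm_ominus hp hf hF hn hab e⟩

variable {H : Type u} [Group H] [Finite H]

/-- `p'`-covers are `Good` -/
theorem Nm.good {g : OrdDiv.Grp} {X : Sh} {p f : ℕ} (h : Nm g X p f (H ⧸ Subgroup.center H))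
    (hH : Cfsg.IsQuasisimple H) (hp : ¬ p ∣ Nat.card (Subgroup.center H)) : Good g X p f H where
  cl := h.cl
  isLie := h.isLie
  name := h.name
  real := h.real
  lie := h.lie
  quasi := hH
  cop := hp
  dvd := H602.DM.center_dvd_cl hH h.cl h.isLie h.name h.real hp

/-- **DM32**: the dispatch to the families -/
theorem dispatch (hH : Cfsg.IsQuasisimple H)
    (hcl : Cfsg.IsPSL (H ⧸ Subgroup.center H) ∨ Cfsg.IsPSp (H ⧸ Subgroup.center H) ∨
      Cfsg.IsPSU (H ⧸ Subgroup.center H) ∨ Cfsg.IsPOmegaOdd (H ⧸ Subgroup.center H) ∨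
      Cfsg.IsPOmegaPlus (H ⧸ Subgroup.center H) ∨ Cfsg.IsPOmegaMinus (H ⧸ Subgroup.center H))
    (hex1 : ∀ (F : Type) [Field F] [Fintype F], Fintype.card F = 4 →
      IsEmpty ((H ⧸ Subgroup.center H) ≃* Matrix.ProjectiveSpecialLinearGroup (Fin 3) F))
    (hex2 : Nat.card (H ⧸ Subgroup.center H) ≠ 3265920) : (∃ g X p f, Good g X p f H) ∨ Exc H := by
  obtain ⟨g, X, p, f, h⟩ := exists_nm hcl
  by_cases hp : p ∣ Nat.card (Subgroup.center H)
  swap
  · exact Or.inl ⟨g, X, p, f, h.good hH hp⟩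
  obtain ⟨m, hm, hZ⟩ := H602.DM.exc_list hH h.cl h.isLie h.name h.real hp
  have hname := h.name
  simp only [H602.DM.excl, List.mem_cons, Prod.mk.injEq, List.not_mem_nil, or_false] at hm
  rcases hm with ⟨rfl, rfl, rfl⟩ | ⟨rfl, rfl, rfl⟩ | ⟨rfl, rfl, rfl⟩ | ⟨rfl, rfl, rfl⟩ | ⟨rfl, rfl, rfl⟩ |
    ⟨rfl, rfl, rfl⟩ | ⟨rfl, rfl, rfl⟩ | ⟨rfl, rfl, rfl⟩ | ⟨rfl, rfl, rfl⟩ | ⟨rfl, rfl, rfl⟩ | ⟨rfl, rfl, rfl⟩
  · -- `L_2(4) = L_2(5)`
    left
    obtain ⟨F, _, _, hF, ⟨e⟩⟩ := hname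
    obtain ⟨e1⟩ := Cfsg.Agent.S0252.result (F := F) hF
    have : Fact (Nat.Prime 5) := ⟨Nat.prime_five⟩
    obtain ⟨e2⟩ := Cfsg.Agent.S0253.result (F := ZMod 5) (ZMod.card 5)
    refine ⟨_, _, 5, 1, (nm_psl (F := ZMod 5) (n := 2) (f := 1) Nat.prime_five le_rfl (by rw [ZMod.card, pow_one]) le_rfl
      (fun _ => by norm_num) ((e.trans e1).trans e2.symm)).good hH fun h5 => ?_⟩
    exact absurd (h5.trans hZ) (by norm_num)
  · -- `A_6`
    right
    left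
    obtain ⟨F, _, _, hF, ⟨e⟩⟩ := hname
    obtain ⟨e1⟩ := Cfsg.Agent.S0254.result (F := F) hF
    exact ⟨hp, ⟨e.trans e1⟩⟩
  · -- `L_3(2) = L_2(7)`
    left
    obtain ⟨F, _, _, hF, ⟨e⟩⟩ := hname
    have : Fact (Nat.Prime 7) := ⟨Nat.prime_seven⟩
    obtain ⟨e2⟩ := Cfsg.Agent.S0255.result (F := ZMod 7) (K := F) (ZMod.card 7) hF
    refine ⟨_, _, 7, 1, (nm_psl (F := ZMod 7) (n := 2) (f := 1) Nat.prime_seven le_rfl (by rw [ZMod.card, pow_one]) le_rfl
      (fun _ => by norm_num) (e.trans e2.symm)).good hH fun h5 => ?_⟩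
    exact absurd (h5.trans hZ) (by norm_num)
  · -- `L_3(4)`
    exfalso
    obtain ⟨F, _, _, hF, ⟨e⟩⟩ := hname
    exact (hex1 F hF).false e
  · -- `A_8`
    right
    right
    left
    obtain ⟨F, _, _, hF, ⟨e⟩⟩ := hname
    obtain ⟨e1⟩ := Cfsg.Agent.S0256.result (F := F) hF
    exact ⟨hp, ⟨e.trans e1⟩⟩
  · -- `U_4(2) = PSp_4(3)`
    left
    obtain ⟨F, _, _, hF, ⟨e⟩⟩ := hname
    have : Fact (Nat.Prime 3) := ⟨Nat.prime_three⟩
    obtain ⟨e2⟩ := Cfsg.Agent.S0822.result (F := F) (K := ZMod 3) (by rw [hF]; norm_num) (ZMod.card 3)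
    refine ⟨_, _, 3, 1, (nm_psp (F := ZMod 3) (n := 2) (f := 1) Nat.prime_three le_rfl (by rw [ZMod.card, pow_one]) le_rfl
      (fun _ => by norm_num) (e.trans e2)).good hH fun h5 => ?_⟩
    exact absurd (h5.trans hZ) (by norm_num)
  · -- `U_4(3)`
    exfalso
    obtain ⟨F, _, _, hF, ⟨e⟩⟩ := hname
    apply hex2
    rw [Nat.card_congr e.toEquiv]
    have h1 := (H902.Names.psu_real (F := F) (n := 4) (p := 3) (f := 1) Nat.prime_three le_rfl (by rw [hF]; norm_num)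
      (by norm_num) (by norm_num)).eq
    rw [pow_one] at h1
    have h2 : H902.Art.dd (.U 4) 3 = 4 := by decide
    have h3 : 3 ^ H902.Art.NN (.U 4) * H902.Art.num (.U 4) 3 = 4 * 3265920 := by decide
    rw [h2, h3] at h1
    exact Nat.eq_of_mul_eq_mul_left (by norm_num) h1
  · -- `U_6(2)`
    right
    right
    right
    right
    right
    right
    obtain ⟨F, _, _, hF, ⟨e⟩⟩ := hname
    exact ⟨hp, F, inferInstance, inferInstance, by rw [hF]; norm_num, ⟨e⟩⟩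
  · -- `PSp_6(2)`
    right
    right
    right
    left
    obtain ⟨F, _, _, hF, ⟨e⟩⟩ := hname
    exact ⟨hp, F, inferInstance, inferInstance, hF, ⟨e⟩⟩
  · -- `Ω_7(3)`
    right
    right
    right
    right
    left
    obtain ⟨F, _, _, hF, ⟨e⟩⟩ := hname
    exact ⟨hp, F, inferInstance, inferInstance, hF, ⟨e⟩⟩
  · -- `Ω_8^+(2)`
    right
    right
    right
    right
    right
    left
    obtain ⟨F, _, _, hF, ⟨e⟩⟩ := hname
    exact ⟨hp, F, inferInstance, inferInstance, hF, ⟨e⟩⟩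

end Cfsg.Agent.H551.DM
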